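import Cfsg.Agent.H963.RIM.OwnC
import Cfsg.Agent.H911.AdA
import Cfsg.Agent.Nodes.RGDClass
import Cfsg.Agent.H332.PQ.Rgd

/-!
# S4816, RIM-L-OWN: `PSL_{l + 1}(F)`, `l ≥ 2`, in its own characteristic (helper963)
-/

set_option autoImplicit false

namespace Cfsg.Agent.H963.RIM

open Matrix Cfsg Cfsg.Agent.H665.RIM Cfsg.Agent.H911.SLTwo
open Cfsg.Agent.ChevalleyStructure.CoxeterGeom Cfsg.Agent.Tits.Roots Cfsg.Agent.Nodes.Reps
open Cfsg.Agent.Nodes Cfsg.Agent.Nodes.RGDLib Cfsg.Agent.Nodes.Bruhat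
open Cfsg.Agent.LieRecognition.BNCox (cA)
open Cfsg.Agent.H911.Ad (bk bk_U bk_Lo bk_U_mem bk_Lo_mem bk_apply)
open Cfsg.Agent.Nodes.RGDTypeA (X_sr X_neg_sr mem_XX)
open scoped MatrixGroups

universe u

/-- **`PSL_{l+1}(F)` in its own characteristic, `l ≥ 2`.** -/
theorem nb_own_psl {F : Type u} [Field F] [Finite F] {p : ℕ} [hp : Fact p.Prime] [CharP F p] {l : ℕ} (hl : 2 ≤ l) :
    NBall p (Matrix.ProjectiveSpecialLinearGroup (Fin (l + 1)) F) := by
  have hW : Finite (cA l).Group := RootsA.finite_W (cA l).toCoxeterSystem (RootsA.isCartan l)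
  have R := RGDTypeA.rgd_psl (F := F) (p := p) (cA l).toCoxeterSystem (RootsA.isCartan l)
  have hG1 := RGDTypeA.G1_psl_eq_top (F := F) (cA l).toCoxeterSystem (RootsA.isCartan l)
  have hG := H332.PQ.gg_eq_top hG1 (T := (RGDTypeA.T (Fin (l + 1)) F).map (RGDTypeA.pr l F))
  set K := Matrix.ProjectiveSpecialLinearGroup (Fin (l + 1)) F with hK
  have hidker : (MonoidHom.id K).ker = ⊥ := (MonoidHom.ker_eq_bot_iff _).2 Function.injective_id
  have h0 : 0 < l := by omega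
  refine nball_of_nd (P := K) R hG (Cfsg.Agent.Nodes.RGDClass.hasRGD_PSL l) (MonoidHom.id K) Function.surjective_id
    (by rw [hidker]; exact bot_le) (by rw [hidker, Subgroup.card_bot]; exact Nat.coprime_one_left p) (i := (⟨0, h0⟩ : Fin l))
    ((RGDTypeA.pr l F).comp (bk F ⟨0, h0⟩)) ?_ ?_ ?_ ?_
  · intro t
    exact Subgroup.mem_map_of_mem _ (bk_U_mem _ t)
  · rintro y ⟨x, hx, rfl⟩
    rw [X_sr] at hx
    obtain ⟨t, rfl⟩ := mem_XX.1 hx
    exact ⟨t, by rw [MonoidHom.comp_apply, bk_U]⟩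
  · intro t
    exact Subgroup.mem_map_of_mem _ (bk_Lo_mem _ t)
  · intro x hx
    have h1 : bk F ⟨0, h0⟩ x ∈ Subgroup.center (Matrix.SpecialLinearGroup (Fin (l + 1)) F) := by
      have h2 : ((bk F ⟨0, h0⟩ x : Matrix.SpecialLinearGroup (Fin (l + 1)) F) : K) = 1 := hx
      exact (QuotientGroup.eq_one_iff _).1 h2
    obtain ⟨r, -, hr⟩ := Matrix.SpecialLinearGroup.mem_center_iff.1 h1
    have hent : ∀ u v, (bk F ⟨0, h0⟩ x).1 u v = if u = v then r else 0 := by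
      intro u v
      rw [← hr, Matrix.scalar_apply, Matrix.diagonal_apply]
    have e0 : (⟨0, h0⟩ : Fin l).castSucc = (⟨0, by omega⟩ : Fin (l + 1)) := rfl
    have e1 : (⟨0, h0⟩ : Fin l).succ = (⟨1, by omega⟩ : Fin (l + 1)) := rfl
    have h2 := hent ⟨2, by omega⟩ ⟨2, by omega⟩
    rw [bk_apply, e0, e1, if_neg (by simp), if_neg (by simp), if_pos rfl, if_pos rfl] at h2
    have h00 := hent ⟨0, by omega⟩ ⟨0, by omega⟩
    have h01 := hent ⟨0, by omega⟩ ⟨1, by omega⟩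
    have h10 := hent ⟨1, by omega⟩ ⟨0, by omega⟩
    have h11 := hent ⟨1, by omega⟩ ⟨1, by omega⟩
    rw [bk_apply, e0, e1] at h00 h01 h10 h11
    simp only [Fin.mk.injEq, one_ne_zero, zero_ne_one, if_true, if_false, ← h2] at h00 h01 h10 h11
    apply Subtype.ext
    ext u v
    fin_cases u <;> fin_cases v
    · exact h00
    · exact h01
    · exact h10
    · exact h11

end Cfsg.Agent.H963.RIM
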